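import Cfsg.Agent.Char.SmallArc
import Mathlib.RingTheory.RootsOfUnity.Complex

/-!
# Elements of prime order at least 7 with two eigenvalues: conjugates commute
-/

set_option autoImplicit false
set_option linter.style.haveILetI false
set_option linter.unusedSectionVars false

namespace CfsgLib.BelowTwoP

open CfsgLib.Char Finset
open CfsgLib.Char.SmallArc

universe u

variable {G : Type u} [Group G] [Fintype G] {n : ℕ}

theorem eigen_cases (ρ : Representation ℂ G (Fin n → ℂ)) {p : ℕ} {z : G}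
    (ho : orderOf z = p) {ω : ℂ} (hω : ω ^ p = 1)
    (hval : ∀ j : ℕ, ρ.character (z ^ j) = (p : ℂ) * ω ^ j + ((n : ℂ) - p)) (x : G) {μ : ℂ}
    (hμ : IsEigen ρ (x * z * x⁻¹) μ) : μ = 1 ∨ μ = ω := by
  classical
  obtain ⟨v₀, hv₀, hv₀'⟩ := hμ
  obtain ⟨v, hv⟩ : ∃ v, ρ x⁻¹ v₀ = v := ⟨_, rfl⟩
  have hvne : v ≠ 0 := fun h => hv₀ (by
    have h1 := congrArg (ρ x) (hv.trans h)
    rwa [← Module.End.mul_apply, ← map_mul, mul_inv_cancel, map_one, Module.End.one_apply,
      map_zero] at h1)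
  have hzv : ρ z v = μ • v := by
    have h1 := congrArg (ρ x⁻¹) hv₀'
    rw [map_smul, hv, ← Module.End.mul_apply, ← map_mul] at h1
    rw [← h1, ← hv, ← Module.End.mul_apply, ← map_mul]
    congr 2
    group
  have hroot := eigen_mem_roots ρ (g := z) ⟨v, hvne, hzv⟩
  have hμp : μ ^ p = 1 := ho ▸ mem_roots.1 hroot
  have hp0 : 0 < p := ho ▸ orderOf_pos z
  have hμ0 : μ ≠ 0 := fun h0 => by
    rw [h0, zero_pow hp0.ne'] at hμp; exact zero_ne_one hμp
  have hfix : proj ρ z μ v = v := by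
    have hpow : ∀ j : ℕ, ρ (z ^ j) v = μ ^ j • v := by
      intro j
      induction j with
      | zero => simp
      | succ j ih =>
        rw [pow_succ', map_mul, Module.End.mul_apply, ih, map_smul, hzv, smul_smul, pow_succ]
    simp only [proj, LinearMap.smul_apply, LinearMap.sum_apply]
    rw [sum_congr rfl fun j _ => by
      rw [hpow, smul_smul, ← mul_pow, inv_mul_cancel₀ hμ0, one_pow, one_smul], sum_const,
      card_range, ← Nat.cast_smul_eq_nsmul ℂ, smul_smul,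
      inv_mul_cancel₀ (Nat.cast_ne_zero.2 (orderOf_pos z).ne'), one_smul]
  by_contra hno
  rw [not_or] at hno
  refine hvne ?_
  rw [← hfix, proj_eq_zero_of_trace ρ z hroot ?_, LinearMap.zero_apply]
  rw [trace_proj, ho]
  refine mul_eq_zero_of_right _ ?_
  have geo : ∀ a : ℂ, a ^ p = 1 → a ≠ 1 → ∑ j ∈ range p, a ^ j = 0 := fun a ha ha1 => by
    rw [geom_sum_eq ha1, ha, sub_self, zero_div]
  have hinv : (μ⁻¹) ^ p = 1 := by rw [inv_pow, hμp, inv_one]
  have h1 : μ⁻¹ * ω ≠ 1 := fun h => hno.2 (by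
    have h' := congrArg (fun a => μ * a) h
    simp only [← mul_assoc, mul_inv_cancel₀ hμ0, one_mul, mul_one] at h'
    exact h'.symm)
  have h2 : μ⁻¹ ≠ 1 := fun h => hno.1 (inv_eq_one.1 h)
  calc ∑ j ∈ range p, μ⁻¹ ^ j * ρ.character (z ^ j)
      = ∑ j ∈ range p, ((p : ℂ) * (μ⁻¹ * ω) ^ j + ((n : ℂ) - p) * μ⁻¹ ^ j) :=
        sum_congr rfl fun j _ => by rw [hval, mul_pow]; ring
    _ = 0 := by
      rw [sum_add_distrib, ← mul_sum, ← mul_sum, geo _ (by rw [mul_pow, hinv, hω, one_mul]) h1,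
        geo _ hinv h2, mul_zero, mul_zero, add_zero]

/-- Frobenius: two conjugates of an element with eigenvalues in `{1, exp (2πi/p)}` commute. -/
theorem commute_conjugates (ρ : Representation ℂ G (Fin n → ℂ)) (hinj : Function.Injective ρ)
    {p : ℕ} (h7 : 7 ≤ p) {z : G} (ho : orderOf z = p)
    (hval : ∀ j : ℕ, ρ.character (z ^ j) =
      (p : ℂ) * Complex.exp (2 * Real.pi * Complex.I / p) ^ j + ((n : ℂ) - p))
    (x y : G) : (x * z * x⁻¹) * (y * z * y⁻¹) = (y * z * y⁻¹) * (x * z * x⁻¹) := by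
  classical
  haveI : NeZero (2 * p) := ⟨by omega⟩
  have hp0 : (p : ℂ) ≠ 0 := Nat.cast_ne_zero.2 (by omega)
  have hω : Complex.exp (2 * Real.pi * Complex.I / p) ^ p = 1 :=
    (Complex.isPrimitiveRoot_exp p (by omega)).pow_eq_one
  obtain ⟨t, ht⟩ : ∃ t : ℂ, Complex.exp ((-(Real.pi / p) : ℝ) * Complex.I) = t := ⟨_, rfl⟩
  have ht1 : t ^ (2 * p) = 1 := by
    rw [← ht, ← Complex.exp_nat_mul, Complex.exp_eq_one_iff]
    exact ⟨-1, by push_cast; field_simp⟩
  obtain ⟨φ, hφ⟩ : ∃ φ : G × rootsOfUnity (2 * p) ℂ →* Module.End ℂ (Fin n → ℂ),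
      ∀ a, φ a = (((a.2 : ℂˣ) : ℂ)) • ρ a.1 :=
    ⟨{ toFun := fun a => (((a.2 : ℂˣ) : ℂ)) • ρ a.1
       map_one' := by simp
       map_mul' := fun a b => by
        simp only [Prod.fst_mul, Prod.snd_mul, Subgroup.coe_mul, Units.val_mul, map_mul,
          smul_mul_smul_comm] }, fun a => rfl⟩
  haveI : Finite φ.toHomUnits.range :=
    Finite.of_surjective φ.toHomUnits.rangeRestrict φ.toHomUnits.rangeRestrict_surjective
  letI : Fintype φ.toHomUnits.range := Fintype.ofFinite _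
  obtain ⟨R, hR⟩ : ∃ R : Representation ℂ φ.toHomUnits.range (Fin n → ℂ),
      ∀ e, R e = ((e : (Module.End ℂ (Fin n → ℂ))ˣ) : Module.End ℂ (Fin n → ℂ)) :=
    ⟨(Units.coeHom _).comp φ.toHomUnits.range.subtype, fun e => rfl⟩
  have hRinj : Function.Injective R := fun a b h => by
    rw [hR, hR] at h
    exact Subtype.ext (Units.ext h)
  have htu : (Units.mk0 t (by rw [← ht]; exact Complex.exp_ne_zero _) : ℂˣ) ∈
      rootsOfUnity (2 * p) ℂ := by
    rw [mem_rootsOfUnity]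
    exact Units.ext (by rw [Units.val_pow_eq_pow_val, Units.val_mk0, ht1, Units.val_one])
  obtain ⟨c, hc⟩ : ∃ c : rootsOfUnity (2 * p) ℂ, (((c : ℂˣ)) : ℂ) = t := ⟨⟨_, htu⟩, rfl⟩
  obtain ⟨E, hE⟩ : ∃ E : G → φ.toHomUnits.range, ∀ g, R (E g) = t • ρ g :=
    ⟨fun g => φ.toHomUnits.rangeRestrict (g, c), fun g => by
      rw [hR, MonoidHom.coe_rangeRestrict, MonoidHom.coe_toHomUnits, hφ, hc]⟩
  have hsmall : ∀ g : G, IsSmall R (E (g * z * g⁻¹)) := by
    intro g ν hν
    obtain ⟨v, hv, hv'⟩ := hν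
    rw [hE, LinearMap.smul_apply] at hv'
    have ht0 : t ≠ 0 := by rw [← ht]; exact Complex.exp_ne_zero _
    have h1 : IsEigen ρ (g * z * g⁻¹) (t⁻¹ * ν) := ⟨v, hv, by
      rw [← smul_smul, ← hv', inv_smul_smul₀ ht0]⟩
    have hang : Real.sqrt 3 / 2 < Real.cos (Real.pi / p) := by
      rw [← Real.cos_pi_div_six]
      have hp7 : (7 : ℝ) ≤ p := by exact_mod_cast h7
      apply Real.cos_lt_cos_of_nonneg_of_le_pi (by positivity)
      · linarith [Real.pi_pos]
      · rw [div_lt_div_iff₀ (by linarith) (by norm_num)]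
        nlinarith [Real.pi_pos]
    rcases eigen_cases ρ ho hω hval g h1 with h | h
    · have hνt : ν = t := by rw [← mul_inv_cancel_left₀ ht0 ν, h, mul_one]
      rw [hνt, ← ht, Complex.exp_ofReal_mul_I_re, Real.cos_neg]
      exact hang
    · have hνt : ν = Complex.exp ((Real.pi / p : ℝ) * Complex.I) := by
        rw [← mul_inv_cancel_left₀ ht0 ν, h, ← ht, ← Complex.exp_add]
        congr 1
        push_cast
        field_simp
        ring
      rw [hνt, Complex.exp_ofReal_mul_I_re]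
      exact hang
  have key := congrArg R (commute_of_small R hRinj (hsmall x) (hsmall y))
  rw [map_mul, map_mul, hE, hE, smul_mul_smul_comm, smul_mul_smul_comm, ← map_mul, ← map_mul]
    at key
  have ht0 : t * t ≠ 0 := by rw [← ht]; exact mul_ne_zero (Complex.exp_ne_zero _) (Complex.exp_ne_zero _)
  exact hinj (smul_right_injective (Module.End ℂ (Fin n → ℂ)) ht0 key)

end CfsgLib.BelowTwoP
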