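import Cfsg.Agent.Char.SmallArc
import Cfsg.Agent.Char.Clifford
import Cfsg.Agent.Char.Central
import Cfsg.Agent.Char.Linear
import Cfsg.Agent.Solvable.PGroupBasic
import Mathlib.RingTheory.RootsOfUnity.Complex

/-!
# Linear groups of degree below `2p`: local lemmas
-/

set_option autoImplicit false
set_option linter.style.haveILetI false
set_option linter.unusedSectionVars false

namespace CfsgLib.BelowTwoP

open CfsgLib.Char Finset
open scoped ComplexConjugate

universe u

variable {G : Type u} [Group G]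

/-- A character with only linear constituents is constant on the commutator subgroup. -/
theorem apply_eq_apply_one_of_linear [Fintype G] {φ : G → ℂ} (hφ : Cfsg.IsCharacter G φ)
    (hlin : ∀ θ, Cfsg.IsIrrCharacter G θ → Cfsg.classInner φ θ ≠ 0 → θ 1 = 1) {z : G}
    (hz : z ∈ commutator G) : φ z = φ 1 := by
  classical
  have h := eq_sum_irr (IsCharacter.isClassFunction hφ)
  have key : ∀ θ ∈ irrFinset G,
      (Cfsg.classInner φ θ • θ) z = (Cfsg.classInner φ θ • θ) 1 := by
    intro θ hθ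
    by_cases h0 : Cfsg.classInner φ θ = 0
    · rw [h0, zero_smul, Pi.zero_apply, Pi.zero_apply]
    obtain ⟨lam, rfl⟩ := IsCharacter.exists_hom
      (IsIrrCharacter.isCharacter (mem_irrFinset.1 hθ)) (hlin θ (mem_irrFinset.1 hθ) h0)
    have hk : lam z = 1 := MonoidHom.mem_ker.1 (Abelianization.commutator_subset_ker lam hz)
    simp only [Pi.smul_apply, hk, map_one]
  conv_lhs => rw [h, Finset.sum_apply, sum_congr rfl key]
  conv_rhs => rw [h, Finset.sum_apply]

/-- A `p`-group with a faithful character having only linear constituents is commutative. -/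
theorem commute_of_linear [Fintype G] {φ : G → ℂ} (hφ : Cfsg.IsCharacter G φ)
    (hfaith : ∀ g, φ g = φ 1 → g = 1)
    (hlin : ∀ θ, Cfsg.IsIrrCharacter G θ → Cfsg.classInner φ θ ≠ 0 → θ 1 = 1) (a b : G) :
    a * b = b * a := by
  have hmem : a * b * a⁻¹ * b⁻¹ ∈ commutator G := by
    rw [commutator_def]
    exact Subgroup.commutator_mem_commutator (Subgroup.mem_top a) (Subgroup.mem_top b)
  have h := hfaith _ (apply_eq_apply_one_of_linear hφ hlin hmem)
  calc a * b = (a * b * a⁻¹ * b⁻¹) * (b * a) := by group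
    _ = b * a := by rw [h, one_mul]

/-- A central element acts by a scalar in an irreducible representation. -/
theorem exists_scalar {V : Type*} [AddCommGroup V] [Module ℂ V] [FiniteDimensional ℂ V]
    (σ : Representation ℂ G V) [σ.IsIrreducible] {z : G} (hz : ∀ x : G, x * z = z * x) :
    ∃ c : ℂ, σ z = c • (1 : Module.End ℂ V) :=
  ⟨_, eq_smul_one_of_commute σ (σ z) fun g => by rw [← map_mul, hz g, map_mul]⟩

/-- Degrees of irreducible characters of a `p`-group are powers of `p`. -/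
theorem exists_degree_eq_pow [Finite G] {p : ℕ} [Fact p.Prime] (hP : IsPGroup p G) {θ : G → ℂ}
    (hθ : Cfsg.IsIrrCharacter G θ) : ∃ j : ℕ, θ 1 = ((p ^ j : ℕ) : ℂ) := by
  obtain ⟨d, -, hd⟩ := IsIrrCharacter.exists_degree hθ
  obtain ⟨i, hi⟩ := hP.exists_card_eq
  obtain ⟨j, -, hj⟩ := (Nat.dvd_prime_pow Fact.out).1
    (hi ▸ IsIrrCharacter.degree_dvd_card hθ hd : d ∣ p ^ i)
  exact ⟨j, by rw [hd, hj]⟩

/-- The value at the central commutator element of a nonabelian `p`-subgroup. -/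
theorem exists_element [Fintype G] {p n : ℕ} [hp : Fact p.Prime] {χ : G → ℂ}
    (hχ : Cfsg.IsCharacter G χ) (hfaith : ∀ g, χ g = χ 1 → g = 1) (hn : χ 1 = n)
    (hn2 : n < 2 * p) (P : Subgroup G) [Fintype P] (hP : IsPGroup p P)
    (hnab : ∃ x ∈ P, ∃ y ∈ P, x * y ≠ y * x) :
    p ≤ n ∧ ∃ z ∈ P, z ^ p = 1 ∧ z ≠ 1 ∧ ∀ j : ℕ,
      χ (z ^ j) =
        (p : ℂ) * Complex.exp (2 * Real.pi * Complex.I / p) ^ j + ((n : ℂ) - p) := by
  classical
  have hres : Cfsg.IsCharacter P fun x : P => χ x := IsCharacter.restrict hχ P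
  have hfaith' : ∀ x : P, χ x = χ ((1 : P) : G) → x = 1 := fun x hx =>
    Subtype.ext (hfaith _ (by rwa [OneMemClass.coe_one] at hx))
  obtain ⟨x, hx, y, hy, hxy⟩ := hnab
  obtain ⟨ψ, hψ, hψne, hψ1⟩ : ∃ ψ, Cfsg.IsIrrCharacter P ψ ∧
      Cfsg.classInner (fun x : P => χ x) ψ ≠ 0 ∧ ψ 1 ≠ 1 := by
    by_contra hno
    push Not at hno
    exact hxy (congrArg Subtype.val
      (commute_of_linear hres hfaith' hno ⟨x, hx⟩ ⟨y, hy⟩))
  obtain ⟨j, hj⟩ := exists_degree_eq_pow hP hψ
  have hle : p ^ j ≤ n := by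
    have h := IsCharacter.re_constituent_le hres hψ hψne
    simp only [hj, OneMemClass.coe_one, hn, Complex.natCast_re] at h
    exact_mod_cast h
  have hj1 : j = 1 := by
    rcases j with _ | _ | j
    · exact absurd (by rw [hj, pow_zero, Nat.cast_one]) hψ1
    · rfl
    · exfalso
      have h2 : p ^ 2 ≤ p ^ (j + 1 + 1) := Nat.pow_le_pow_right hp.out.pos (by omega)
      have h3 : 2 * p ≤ p ^ 2 := by
        rw [sq]; exact Nat.mul_le_mul_right p hp.out.two_le
      omega
  subst hj1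
  rw [pow_one] at hj hle
  obtain ⟨r, hr⟩ : ∃ r, (fun x : P => χ x) - ψ = r := ⟨_, rfl⟩
  have hrc : Cfsg.IsCharacter P r := hr ▸ IsCharacter.sub_irr hres hψ hψne
  have hr1 : r 1 = ((n - p : ℕ) : ℂ) := by
    rw [← hr, Pi.sub_apply, hj, OneMemClass.coe_one, hn, Nat.cast_sub hle]
  have hrlin : ∀ θ, Cfsg.IsIrrCharacter P θ → Cfsg.classInner r θ ≠ 0 → θ 1 = 1 := by
    intro θ hθ h
    obtain ⟨i, hi⟩ := exists_degree_eq_pow hP hθ
    have h1 := IsCharacter.re_constituent_le hrc hθ h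
    rw [hi, hr1, Complex.natCast_re, Complex.natCast_re, Nat.cast_le] at h1
    rcases i with _ | i
    · rw [hi, pow_zero, Nat.cast_one]
    · exfalso
      have : p ≤ p ^ (i + 1) := Nat.le_self_pow (by omega) p
      omega
  haveI : Group.IsNilpotent P := hP.isNilpotent
  have hcne : commutator P ≠ ⊥ := fun h0 => hxy (by
    have hmem : (⟨x, hx⟩ : P) * ⟨y, hy⟩ * (⟨x, hx⟩ : P)⁻¹ * (⟨y, hy⟩ : P)⁻¹ ∈ commutator P := by
      rw [commutator_def]
      exact Subgroup.commutator_mem_commutator (Subgroup.mem_top _) (Subgroup.mem_top _)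
    rw [h0, Subgroup.mem_bot] at hmem
    have h1 := congrArg (fun t : P => (t : G) * (y * x)) hmem
    simp only [Subgroup.coe_mul, Subgroup.coe_inv, OneMemClass.coe_one, one_mul] at h1
    rw [← h1]; group)
  have hC : p ∣ Nat.card (commutator P ⊓ Subgroup.center P : Subgroup P) := by
    obtain ⟨i, hi⟩ := (hP.to_subgroup (commutator P ⊓ Subgroup.center P)).exists_card_eq
    rw [hi]
    refine dvd_pow_self p ?_
    rintro rfl
    exact CfsgLib.PGroupBasic.inf_center_ne_bot (commutator P) hcne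
      (Subgroup.card_eq_one.1 (by rw [hi, pow_zero]))
  obtain ⟨w, hw⟩ := exists_prime_orderOf_dvd_card' p hC
  obtain ⟨hwc, hwz⟩ := Subgroup.mem_inf.1 w.2
  have hw1 : (w : P) ≠ 1 := fun h => hp.out.one_lt.ne' (by
    rw [← hw, ← Subgroup.orderOf_coe, h, orderOf_one])
  have hwp : (w : P) ^ p = 1 := by
    rw [← hw, ← Subgroup.orderOf_coe, pow_orderOf_eq_one]
  obtain ⟨m, σ, hσ, rfl⟩ := hψ
  haveI := hσ
  obtain ⟨c, hc⟩ := exists_scalar σ (Subgroup.mem_center_iff.1 hwz)
  have hpow : ∀ i : ℕ, σ.character ((w : P) ^ i) = c ^ i * (p : ℂ) := fun i => by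
    rw [Representation.character, map_pow, hc, smul_pow, one_pow, map_smul,
      LinearMap.trace_one, smul_eq_mul, ← σ.char_one, hj]
  have hχpow : ∀ i : ℕ, χ (((w : P) : G) ^ i) = (p : ℂ) * c ^ i + ((n : ℂ) - p) := fun i => by
    have h1 : r ((w : P) ^ i) = r 1 :=
      apply_eq_apply_one_of_linear hrc hrlin (Subgroup.pow_mem _ hwc i)
    rw [hr1, ← hr, Pi.sub_apply, hpow, Subgroup.coe_pow, Nat.cast_sub hle] at h1
    rw [← h1]; ring
  have hp0 : (p : ℂ) ≠ 0 := Nat.cast_ne_zero.2 hp.out.ne_zero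
  have hcp : c ^ p = 1 := by
    have h1 := hpow p
    rw [hwp, hj] at h1
    exact (mul_eq_right₀ hp0).1 h1.symm
  have hc1 : c ≠ 1 := by
    intro h
    refine hw1 (Subtype.ext (hfaith _ ?_))
    have h1 := hχpow 1
    rw [pow_one, pow_one, h, mul_one] at h1
    rw [h1, hn]; ring
  have hcprim : IsPrimitiveRoot c p := by
    have ho : orderOf c = p := orderOf_eq_prime hcp hc1
    exact ho ▸ IsPrimitiveRoot.orderOf c
  haveI : NeZero p := ⟨hp.out.ne_zero⟩
  obtain ⟨k, -, hk⟩ := hcprim.eq_pow_of_pow_eq_one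
    ((Complex.isPrimitiveRoot_exp p hp.out.ne_zero).pow_eq_one)
  have hval : ∀ i : ℕ, χ ((((w : P) : G) ^ k) ^ i) =
      (p : ℂ) * Complex.exp (2 * Real.pi * Complex.I / p) ^ i + ((n : ℂ) - p) := fun i => by
    rw [← pow_mul, hχpow, pow_mul, hk]
  refine ⟨hle, ((w : P) : G) ^ k, P.pow_mem (w : P).2 k, ?_, ?_, hval⟩
  · rw [← pow_mul, mul_comm, pow_mul, ← Subgroup.coe_pow, hwp, OneMemClass.coe_one, one_pow]
  · intro h
    have h1 := hval 1
    rw [h, one_pow, hn, pow_one] at h1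
    have h2 : (p : ℂ) * Complex.exp (2 * Real.pi * Complex.I / p) = (p : ℂ) * 1 := by
      linear_combination -h1
    exact (Complex.isPrimitiveRoot_exp p hp.out.ne_zero).ne_one hp.out.one_lt
      (mul_left_cancel₀ hp0 h2)

end CfsgLib.BelowTwoP
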