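import Cfsg.Agent.BelowTwoP.Local
import Cfsg.Agent.BelowTwoP.Arc
import Cfsg.Prelude.Def_Solvable
import Cfsg.Prelude.Def_Blocks
import Mathlib.Data.Nat.Multiplicity
import Mathlib.Data.Nat.Prime.Factorial
import Mathlib.Data.Fintype.Perm

/-!
# Linear groups of degree below `2p`, `p ≥ 7`: the index of the `p`-core
-/

set_option autoImplicit false
set_option linter.style.haveILetI false
set_option linter.unusedSectionVars false

namespace CfsgLib.BelowTwoP

open CfsgLib.Char Finset
open scoped ComplexConjugate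

universe u

variable {G : Type u} [Group G] [Fintype G]

/-- Over a subgroup centralising an abelian normal subgroup the constituents have degree at most
the multiplicity of the linear constituents of the normal subgroup. -/
theorem degree_le_multiplicity {N : Subgroup G} [N.Normal] [Fintype N] {χ : G → ℂ}
    (hχ : Cfsg.IsIrrCharacter G χ) {θ : N → ℂ} (hθ : Cfsg.IsIrrCharacter N θ) {e : ℕ}
    (he : Cfsg.classInner (fun m : N => χ m) θ = e) (he0 : e ≠ 0)
    (H : Subgroup G) [Fintype H] (hNH : N ≤ H) (hcent : ∀ h ∈ H, ∀ m ∈ N, h * m = m * h)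
    {η : H → ℂ} (hη : Cfsg.IsIrrCharacter H η)
    (hne : Cfsg.classInner (fun x : H => χ x) η ≠ 0) :
    ∃ d : ℕ, η 1 = d ∧ d ≤ e := by
  classical
  have hχc := IsIrrCharacter.isCharacter hχ
  have hsub := IsCharacter.sub_irr (IsCharacter.restrict hχc H) hη hne
  obtain ⟨d, hd0, hd⟩ := IsIrrCharacter.exists_degree hη
  refine ⟨d, hd, ?_⟩
  have hrc := IsCharacter.comp hsub (Subgroup.inclusion hNH)
  obtain ⟨m, σ, hσ, rfl⟩ := hη
  haveI := hσ
  have hdm : (d : ℂ) ≠ 0 := Nat.cast_ne_zero.2 (by omega)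
  have hsc : ∀ a : N, ∃ c : ℂ, σ (Subgroup.inclusion hNH a) = c • (1 : Module.End ℂ (Fin m → ℂ)) :=
    fun a => exists_scalar σ fun x => Subtype.ext (hcent x x.2 a a.2)
  choose c hc using hsc
  have htr : ∀ a : N, σ.character (Subgroup.inclusion hNH a) = c a * d := fun a => by
    rw [Representation.character, hc, map_smul, LinearMap.trace_one, smul_eq_mul, ← σ.char_one, hd]
  have hcval : ∀ a b : N, c (a * b) = c a * c b := by
    intro a b
    have h1 := htr (a * b)
    rw [Representation.character, map_mul, map_mul, hc, hc, smul_mul_smul_comm, one_mul, map_smul,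
      LinearMap.trace_one, smul_eq_mul, ← σ.char_one, hd] at h1
    exact (mul_right_cancel₀ hdm h1).symm
  have hc1 : c 1 = 1 := by
    have h1 := htr 1
    rw [map_one, hd] at h1
    exact (mul_eq_right₀ hdm).1 h1.symm
  obtain ⟨lam, hlam⟩ : ∃ lam : N →* ℂˣ, ∀ a, (lam a : ℂ) = c a :=
    ⟨({ toFun := c, map_one' := hc1, map_mul' := hcval } : N →* ℂ).toHomUnits,
      fun a => rfl⟩
  have hdec : (fun a : N => χ a) = (d : ℂ) • (fun a : N => (lam a : ℂ)) +
      fun a : N => ((fun x : H => χ x) - σ.character) (Subgroup.inclusion hNH a) := by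
    funext a
    simp only [Pi.add_apply, Pi.smul_apply, Pi.sub_apply, htr, hlam, smul_eq_mul]
    rw [show ((Subgroup.inclusion hNH a : H) : G) = (a : G) from rfl]
    ring
  obtain ⟨k, hk⟩ := IsCharacter.exists_classInner_eq_natCast hrc (isIrrCharacter_ofHom lam)
  have hinner : Cfsg.classInner (fun a : N => χ a) (fun a : N => (lam a : ℂ)) =
      ((d + k : ℕ) : ℂ) := by
    rw [hdec, classInner_add_left, classInner_smul_left,
      IsIrrCharacter.classInner_self (isIrrCharacter_ofHom lam), hk, mul_one, Nat.cast_add]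
  have hmem := mem_conjOrbit_of_constituent hχ hθ (isIrrCharacter_ofHom lam)
    (by rw [he]; exact Nat.cast_ne_zero.2 he0)
    (by rw [hinner]; exact Nat.cast_ne_zero.2 (by omega))
  obtain ⟨g, hg⟩ := mem_conjOrbit.1 hmem
  rw [hg, classInner_restrict_conjOn (IsIrrCharacter.isClassFunction hχ), he, Nat.cast_inj]
    at hinner
  omega

theorem not_sq_dvd_factorial {p t : ℕ} (hp : p.Prime) (ht : t < 2 * p) :
    ¬ p ^ 2 ∣ Nat.factorial t := by
  intro h
  have hb : Nat.log p t < 2 := by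
    refine Nat.log_lt_of_lt_pow' (by norm_num) ?_
    have : 2 * p ≤ p ^ 2 := by rw [sq]; exact Nat.mul_le_mul_right p hp.two_le
    omega
  have h1 := (hp.pow_dvd_factorial_iff hb).1 h
  rw [show Finset.Ico 1 2 = {1} from rfl, Finset.sum_singleton, pow_one] at h1
  have h2 : t / p < 2 := Nat.div_lt_of_lt_mul (by linarith)
  omega

theorem normal_abelian_of_commute_conjugates {p : ℕ} {z : G} (hz : z ^ p = 1)
    (hcomm : ∀ x y : G, (x * z * x⁻¹) * (y * z * y⁻¹) = (y * z * y⁻¹) * (x * z * x⁻¹)) :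
    ∃ N : Subgroup G, N.Normal ∧ z ∈ N ∧ (∀ a ∈ N, ∀ b ∈ N, a * b = b * a) ∧
      ∀ a ∈ N, a ^ p = 1 := by
  have hgen : ∀ s ∈ Group.conjugatesOfSet ({z} : Set G), ∃ x, s = x * z * x⁻¹ := by
    intro s hs
    obtain ⟨w, hw, hsw⟩ := Group.mem_conjugatesOfSet_iff.1 hs
    rw [Set.mem_singleton_iff] at hw
    subst hw
    obtain ⟨x, hx⟩ := isConj_iff.1 hsw
    exact ⟨x, hx.symm⟩
  have hab : ∀ a ∈ Subgroup.normalClosure ({z} : Set G),
      ∀ b ∈ Subgroup.normalClosure ({z} : Set G), a * b = b * a := by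
    intro a ha b hb
    induction ha, hb using Subgroup.closure_induction₂ with
    | mem a b ha hb =>
      obtain ⟨x, rfl⟩ := hgen a ha
      obtain ⟨y, rfl⟩ := hgen b hb
      exact hcomm x y
    | one_left b _ => simp
    | one_right a _ => simp
    | mul_left a a' b _ _ _ h h' => exact (Commute.mul_left h h')
    | mul_right b b' a _ _ _ h h' => exact (Commute.mul_right h h')
    | inv_left a b _ _ h => exact (Commute.inv_left h)
    | inv_right a b _ _ h => exact (Commute.inv_right h)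
  refine ⟨Subgroup.normalClosure {z}, Subgroup.normalClosure_normal,
    Subgroup.subset_normalClosure rfl, hab, fun a ha => ?_⟩
  induction ha using Subgroup.closure_induction with
  | mem s hs =>
    obtain ⟨x, rfl⟩ := hgen s hs
    rw [conj_pow, hz, mul_one, mul_inv_cancel]
  | one => exact one_pow p
  | mul a b ha' hb' ha hb => rw [Commute.mul_pow (hab a ha' b hb'), ha, hb, one_mul]
  | inv a _ ha => rw [inv_pow, ha, inv_one]

/-- The main theorem: `p²` does not divide the index of the `p`-core. -/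
theorem not_sq_dvd_index {p n : ℕ} [hp : Fact p.Prime] (h7 : 7 ≤ p) {χ : G → ℂ}
    (hχ : Cfsg.IsIrrCharacter G χ) (hfaith : ∀ g, χ g = χ 1 → g = 1) (hn : χ 1 = n)
    (hn2 : n < 2 * p) (hnp : n ≠ p) (P : Sylow p G)
    (hnab : ∃ x ∈ (P : Subgroup G), ∃ y ∈ (P : Subgroup G), x * y ≠ y * x) :
    ¬ p ^ 2 ∣ (Cfsg.pCore p G).index := by
  classical
  have hχc := IsIrrCharacter.isCharacter hχ
  letI : Fintype (P : Subgroup G) := Fintype.ofFinite _
  obtain ⟨hple, z, hzP, hzp, hz1, hval⟩ :=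
    exists_element hχc hfaith hn hn2 (P : Subgroup G) P.2 hnab
  have ho : orderOf z = p := orderOf_eq_prime hzp hz1
  -- the conjugates of `z` commute
  have hcomm : ∀ x y : G,
      (x * z * x⁻¹) * (y * z * y⁻¹) = (y * z * y⁻¹) * (x * z * x⁻¹) := by
    obtain ⟨k, ρ, -, hρ⟩ := hχ
    have hk : k = n := by
      have h1 := ρ.char_one
      rw [hρ, hn, Module.finrank_fin_fun, Nat.cast_inj] at h1
      exact h1.symm
    subst hk
    refine commute_conjugates ρ (fun a b hab => ?_) h7 ho (fun j => by rw [hρ]; exact hval j)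
    rw [← inv_mul_eq_one]
    refine hfaith _ ?_
    have h1 : ρ (a⁻¹ * b) = 1 := by
      rw [map_mul, ← hab, ← map_mul, inv_mul_cancel, map_one]
    rw [← hρ, Representation.character, h1, ρ.char_one, LinearMap.trace_one]
  obtain ⟨N, hNn, hzN, hNab, hNp⟩ := normal_abelian_of_commute_conjugates hzp hcomm
  letI : Fintype N := Fintype.ofFinite _
  have hNP : N ≤ (P : Subgroup G) := by
    have hNpg : IsPGroup p N := fun a => ⟨1, by
      rw [pow_one]; exact Subtype.ext (by rw [Subgroup.coe_pow, hNp a a.2, OneMemClass.coe_one])⟩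
    have h1 : IsPGroup p ((P : Subgroup G) ⊔ N : Subgroup G) :=
      IsPGroup.to_sup_of_normal_right P.2 hNpg
    exact le_sup_right.trans (P.is_maximal' h1 le_sup_left).le
  -- Clifford theory over `N`
  obtain ⟨θ, hθ, hθne⟩ := exists_constituent_restrict (N := N) hχ
  obtain ⟨e, he⟩ := IsCharacter.exists_classInner_eq_natCast (IsCharacter.restrict hχc N) hθ
  have he0 : e ≠ 0 := fun h => hθne (by rw [he, h, Nat.cast_zero])
  have hθ1 : θ 1 = 1 := IsIrrCharacter.apply_one_eq_one hθ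
    fun a b => Subtype.ext (hNab a a.2 b b.2)
  obtain ⟨lam, hlam⟩ := IsCharacter.exists_hom (IsIrrCharacter.isCharacter hθ) hθ1
  have het : n = e * (inertia θ).index := by
    have h1 := degree_eq_mul hχ hθ hθne
    rw [hn, he, hθ1, mul_one, ← Nat.cast_mul, Nat.cast_inj] at h1
    exact h1
  have hform : ∀ a : N, χ a = (e : ℂ) * ∑ ψ ∈ conjOrbit θ, ψ a := fun a => by
    have h1 := congrFun (restrict_eq_smul_sum hχ hθ hθne) a
    rwa [he, Pi.smul_apply, Finset.sum_apply, smul_eq_mul] at h1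
  have hmul : ∀ ψ ∈ conjOrbit θ, ∀ a b : N, ψ (a * b) = ψ a * ψ b ∧ ψ 1 = 1 := by
    intro ψ hψ a b
    obtain ⟨g, rfl⟩ := mem_conjOrbit.1 hψ
    refine ⟨?_, by rw [conjOn_apply_one, hθ1]⟩
    simp only [conjOn_apply, hlam, ← Units.val_mul, ← map_mul]
    congr 2
    apply Subtype.ext
    simp only [Subgroup.coe_mul]
    group
  -- the orbit is not a single point
  have ht2 : 2 ≤ (inertia θ).index := by
    by_contra hlt
    have hi0 : (inertia θ).index ≠ 0 := Subgroup.index_ne_zero_of_finite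
    have hone : (inertia θ).index = 1 := by omega
    have horb : conjOrbit θ = {θ} :=
      (Finset.eq_singleton_iff_unique_mem.2 ⟨self_mem_conjOrbit θ, fun ψ hψ => by
        have h1 := (card_conjOrbit θ).trans hone
        obtain ⟨w, hw⟩ := Finset.card_eq_one.1 h1
        have hθw := self_mem_conjOrbit θ
        rw [hw, Finset.mem_singleton] at hψ hθw
        rw [hψ, hθw]⟩)
    rw [hone, mul_one] at het
    obtain ⟨a, hadef⟩ : ∃ a : ℂ, (lam ⟨z, hzN⟩ : ℂ) = a := ⟨_, rfl⟩
    have hlin : ∀ j : ℕ, (n : ℂ) * a ^ j =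
        (p : ℂ) * Complex.exp (2 * Real.pi * Complex.I / p) ^ j + ((n : ℂ) - p) := fun j => by
      have h1 := hform (⟨z, hzN⟩ ^ j)
      rw [Subgroup.coe_pow, hval, horb, Finset.sum_singleton, hlam] at h1
      simp only [map_pow, Units.val_pow_eq_pow_val, hadef, ← het] at h1
      exact h1.symm
    have hω := Complex.isPrimitiveRoot_exp p hp.out.ne_zero
    have hp0 : (p : ℂ) ≠ 0 := Nat.cast_ne_zero.2 hp.out.ne_zero
    by_cases ha : a = 1
    · have h1 := hlin 1
      rw [ha, one_pow, mul_one, pow_one] at h1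
      exact hω.ne_one hp.out.one_lt (mul_left_cancel₀ hp0 (by linear_combination -h1))
    · have hap : a ^ p = 1 := by
        rw [← hadef, ← Units.val_pow_eq_pow_val, ← map_pow,
          show (⟨z, hzN⟩ : N) ^ p = 1 from Subtype.ext (by rw [Subgroup.coe_pow]; exact hzp),
          map_one, Units.val_one]
      have hs : ∑ j ∈ range p, (n : ℂ) * a ^ j = ∑ j ∈ range p,
          ((p : ℂ) * Complex.exp (2 * Real.pi * Complex.I / p) ^ j + ((n : ℂ) - p)) :=
        sum_congr rfl fun j _ => hlin j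
      rw [← mul_sum, geom_sum_eq ha, hap, sub_self, zero_div, mul_zero, sum_add_distrib,
        ← mul_sum, hω.geom_sum_eq_zero hp.out.one_lt, mul_zero, zero_add, sum_const, card_range,
        nsmul_eq_mul] at hs
      rcases mul_eq_zero.1 hs.symm with h | h
      · exact hp0 h
      · exact hnp (by exact_mod_cast sub_eq_zero.1 h)
  -- elements fixing every constituent centralise `N`
  have hfix : ∀ x : G, (∀ ψ ∈ conjOrbit θ, conjOn x ψ = ψ) → ∀ m ∈ N, x * m = m * x := by
    intro x hx m hm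
    have hmx : x * m * x⁻¹ ∈ N := hNn.conj_mem m hm x
    have h1 : χ (((⟨x * m * x⁻¹, hmx⟩ : N) * (⟨m, hm⟩ : N)⁻¹ : N) : G) = χ 1 := by
      rw [hform, hn, het, Nat.cast_mul, sum_congr rfl (fun ψ hψ => ?_), sum_const,
        card_conjOrbit, nsmul_eq_mul, mul_one]
      have h2 : ψ ⟨x * m * x⁻¹, hmx⟩ = ψ ⟨m, hm⟩ := congrFun (hx ψ hψ) ⟨m, hm⟩
      rw [(hmul ψ hψ _ _).1, h2, ← (hmul ψ hψ _ _).1, mul_inv_cancel,
        (hmul ψ hψ 1 1).2]
    have h3 := hfaith _ h1
    rw [Subgroup.coe_mul, Subgroup.coe_inv, mul_inv_eq_one] at h3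
    exact mul_inv_eq_iff_eq_mul.1 h3
  -- the action on the orbit
  have hmove : ∀ (g : G) (ψ : N → ℂ), ψ ∈ conjOrbit θ → conjOn g ψ ∈ conjOrbit θ := fun g ψ hψ => by
    obtain ⟨a, rfl⟩ := mem_conjOrbit.1 hψ
    exact mem_conjOrbit.2 ⟨a * g, conjOn_conjOn a g θ⟩
  obtain ⟨act, hact⟩ : ∃ act : G →* Equiv.Perm {ψ // ψ ∈ conjOrbit θ},
      ∀ g ψ, ((act g ψ : {ψ // ψ ∈ conjOrbit θ}) : N → ℂ) = conjOn g⁻¹ (ψ : N → ℂ) :=
    ⟨{ toFun := fun g =>
        { toFun := fun ψ => ⟨conjOn g⁻¹ (ψ : N → ℂ), hmove _ _ ψ.2⟩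
          invFun := fun ψ => ⟨conjOn g (ψ : N → ℂ), hmove _ _ ψ.2⟩
          left_inv := fun ψ => Subtype.ext (by simp [conjOn_conjOn])
          right_inv := fun ψ => Subtype.ext (by simp [conjOn_conjOn]) }
       map_one' := Equiv.ext fun ψ => Subtype.ext (by simp)
       map_mul' := fun a b => Equiv.ext fun ψ => Subtype.ext (by simp [conjOn_conjOn]) },
      fun g ψ => rfl⟩
  have hker : ∀ x ∈ act.ker, ∀ ψ ∈ conjOrbit θ, conjOn x ψ = ψ := fun x hx ψ hψ => by
    have h1 := hact x⁻¹ ⟨ψ, hψ⟩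
    rw [MonoidHom.mem_ker.1 (inv_mem hx), inv_inv] at h1
    exact h1.symm
  have hNK : N ≤ act.ker := fun m hm => MonoidHom.mem_ker.2 <| Equiv.ext fun ψ => Subtype.ext <| by
    rw [hact, Equiv.Perm.one_apply]
    funext a
    rw [conjOn_apply]
    refine congrArg (ψ : N → ℂ) (Subtype.ext ?_)
    change m⁻¹ * (a : G) * m⁻¹⁻¹ = (a : G)
    rw [inv_inv]
    have h := hNab m hm a a.2
    calc m⁻¹ * (a : G) * m = m⁻¹ * ((a : G) * m) := mul_assoc _ _ _
      _ = (a : G) := by rw [← h, inv_mul_cancel_left]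
  have hcard : Nat.card {ψ // ψ ∈ conjOrbit θ} = (inertia θ).index := by
    rw [Nat.card_eq_finsetCard, card_conjOrbit]
  have hdvd : Nat.card (Subgroup.map act (P : Subgroup G)) ∣
      Nat.factorial ((inertia θ).index) := by
    rw [← hcard, Nat.card_eq_fintype_card (α := {ψ // ψ ∈ conjOrbit θ}), ← Fintype.card_perm,
      ← Nat.card_eq_fintype_card]
    exact Subgroup.card_subgroup_dvd_card _
  -- if the multiplicity is at least two, `P` fixes every constituent
  have he1 : e = 1 := by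
    by_contra hne1
    have htp : (inertia θ).index < p := by
      have : 2 * (inertia θ).index ≤ e * (inertia θ).index := Nat.mul_le_mul_right _ (by omega)
      omega
    have hP1 : (P : Subgroup G) ≤ act.ker := by
      obtain ⟨i, hi⟩ := (P.2.map act).exists_card_eq
      rcases i with _ | i
      · rw [pow_zero, Subgroup.card_eq_one] at hi
        exact fun x hx => MonoidHom.mem_ker.2
          (Subgroup.mem_bot.1 (hi ▸ Subgroup.mem_map_of_mem act hx))
      · exact absurd ((Nat.Prime.dvd_factorial hp.out).1 ((dvd_pow_self p (Nat.succ_ne_zero i)).trans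
          (hi ▸ hdvd))) (by omega)
    have hcent : ∀ h ∈ (P : Subgroup G), ∀ m ∈ N, h * m = m * h := fun h hh =>
      hfix h (hker h (hP1 hh))
    obtain ⟨x, hx, y, hy, hxy⟩ := hnab
    obtain ⟨η, hη, hηne, hη1⟩ : ∃ η, Cfsg.IsIrrCharacter (P : Subgroup G) η ∧
        Cfsg.classInner (fun a : (P : Subgroup G) => χ a) η ≠ 0 ∧ η 1 ≠ 1 := by
      by_contra hno
      push Not at hno
      exact hxy (congrArg Subtype.val (commute_of_linear (IsCharacter.restrict hχc _)
        (fun a ha => Subtype.ext (hfaith _ (by rwa [OneMemClass.coe_one] at ha))) hno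
        ⟨x, hx⟩ ⟨y, hy⟩))
    obtain ⟨j, hj⟩ := exists_degree_eq_pow P.2 hη
    obtain ⟨d, hd, hde⟩ := degree_le_multiplicity hχ hθ he he0 _ hNP hcent hη hηne
    rw [hj, Nat.cast_inj] at hd
    rcases j with _ | j
    · exact hη1 (by rw [hj, pow_zero, Nat.cast_one])
    · have h1 : p ≤ p ^ (j + 1) := Nat.le_self_pow (by omega) p
      have h2 : p * 2 ≤ e * (inertia θ).index := Nat.mul_le_mul (by omega) ht2
      omega
  -- the kernel of the action is abelian
  letI : Fintype act.ker := Fintype.ofFinite _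
  have hKab : ∀ a b : act.ker, a * b = b * a := by
    refine commute_of_linear (IsCharacter.restrict hχc act.ker)
      (fun a ha => Subtype.ext (hfaith _ (by rwa [OneMemClass.coe_one] at ha))) fun η hη hne => ?_
    obtain ⟨d, hd, hde⟩ := degree_le_multiplicity hχ hθ he he0 act.ker hNK
      (fun h hh => hfix h (hker h hh)) hη hne
    obtain ⟨d', hd0, hd'⟩ := IsIrrCharacter.exists_degree hη
    rw [hd, Nat.cast_inj] at hd'
    rw [hd, show d = 1 by omega, Nat.cast_one]
  have hcore : (P : Subgroup G) ⊓ act.ker ≤ Cfsg.pCore p G := by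
    obtain ⟨i, hi⟩ := P.2.exists_card_eq
    let Q : Subgroup G :=
      { carrier := {x | x ∈ act.ker ∧ x ^ p ^ i = 1}
        one_mem' := ⟨one_mem _, one_pow _⟩
        mul_mem' := fun {a b} ha hb => ⟨mul_mem ha.1 hb.1, by
          rw [Commute.mul_pow (congrArg Subtype.val (hKab ⟨a, ha.1⟩ ⟨b, hb.1⟩)), ha.2, hb.2,
            one_mul]⟩
        inv_mem' := fun {a} ha => ⟨inv_mem ha.1, by rw [inv_pow, ha.2, inv_one]⟩ }
    have hQn : Q.Normal := ⟨fun a ha g => ⟨(MonoidHom.normal_ker act).conj_mem a ha.1 g, by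
      rw [conj_pow, ha.2, mul_one, mul_inv_cancel]⟩⟩
    have hQp : IsPGroup p Q := fun a => ⟨i, Subtype.ext (by
      rw [Subgroup.coe_pow, OneMemClass.coe_one]; exact a.2.2)⟩
    intro x hx
    refine (le_sSup ⟨hQn, hQp⟩ : Q ≤ Cfsg.pCore p G) ⟨hx.2, ?_⟩
    have h1 : (⟨x, hx.1⟩ : (P : Subgroup G)) ^ Nat.card (P : Subgroup G) = 1 := pow_card_eq_one'
    rw [hi] at h1
    exact congrArg Subtype.val h1
  intro hdiv
  have h1 : p ^ 2 ∣ ((P : Subgroup G) ⊓ act.ker).index :=
    hdiv.trans (Subgroup.index_dvd_of_le hcore)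
  rw [← Subgroup.relIndex_mul_index (inf_le_left : (P : Subgroup G) ⊓ act.ker ≤ P)] at h1
  have h2 : p ^ 2 ∣ ((P : Subgroup G) ⊓ act.ker).relIndex P :=
    (Nat.Coprime.pow_left 2 ((hp.out.coprime_iff_not_dvd).2 P.not_dvd_index)).dvd_of_dvd_mul_right h1
  have h3 : ((P : Subgroup G) ⊓ act.ker).relIndex P =
      Nat.card (Subgroup.map act (P : Subgroup G)) := by
    rw [Subgroup.inf_relIndex_left, Subgroup.relIndex, ← MonoidHom.ker_domRestrict,
      Subgroup.index_ker, MonoidHom.domRestrict_range]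
  rw [h3] at h2
  exact not_sq_dvd_factorial hp.out (by rw [he1, one_mul] at het; omega) (h2.trans hdvd)

end CfsgLib.BelowTwoP
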